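import Groth.Agent.S1878
import Mathlib.AlgebraicGeometry.Morphisms.FormallyUnramified
import Mathlib.FieldTheory.IsAlgClosed.AlgebraicClosure
import Groth.Agent.S1879

/-!
# An etale cartesian morphism of groupoids descends to the quotient
-/

set_option autoImplicit false
set_option linter.style.haveILetI false
set_option backward.isDefEq.respectTransparency false

universe u

open CategoryTheory CategoryTheory.Limits AlgebraicGeometry

namespace Groth.Agent.H19.GrpdEt.Descend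

/-- Two lifts through an unramified morphism agreeing after a surjection are equal. -/
theorem eq_of_cover {X Y T T' : Scheme.{u}} (f : Y ⟶ X) [FormallyUnramified f] [LocallyOfFiniteType f]
    (g : T' ⟶ T) [Surjective g] (a b : T ⟶ Y) (h : a ≫ f = b ≫ f) (he : g ≫ a = g ≫ b) : a = b := by
  let d : T ⟶ pullback f f := pullback.lift a b h
  let E := pullback d (pullback.diagonal f)
  haveI : IsOpenImmersion (pullback.fst d (pullback.diagonal f)) := inferInstance
  haveI : Surjective (pullback.fst d (pullback.diagonal f)) := by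
    refine ⟨fun x => ?_⟩
    obtain ⟨y, hy⟩ := g.surjective x
    have w : g ≫ d = (g ≫ a) ≫ pullback.diagonal f :=
      pullback.hom_ext (by simp [d]) (by simp [d, he])
    refine ⟨pullback.lift g (g ≫ a) w y, ?_⟩
    rw [← Scheme.Hom.comp_apply, pullback.lift_fst, hy]
  haveI : IsIso (pullback.fst d (pullback.diagonal f)) :=
    (isIso_iff_isOpenImmersion_and_epi_base _).2 ⟨inferInstance,
      (TopCat.epi_iff_surjective _).2 (pullback.fst d (pullback.diagonal f)).surjective⟩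
  have hc : d = (inv (pullback.fst d (pullback.diagonal f)) ≫ pullback.snd _ _) ≫ pullback.diagonal f := by
    rw [Category.assoc, ← pullback.condition, IsIso.inv_hom_id_assoc]
  have ha := congr($hc ≫ pullback.fst f f)
  have hb := congr($hc ≫ pullback.snd f f)
  simp only [d, pullback.lift_fst, pullback.lift_snd, Category.assoc, pullback.diagonal_fst,
    pullback.diagonal_snd, Category.comp_id] at ha hb
  exact ha.trans hb.symm

variable {S : Scheme.{u}} (G' G : Grpd.GroupoidScheme S) (f : Grpd.GroupoidScheme.Hom G' G)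

/-- Composition of arrows. -/
noncomputable abbrev cmp (H : Grpd.GroupoidScheme S) {T : Scheme.{u}} (α β : T ⟶ H.R)
    (h : α ≫ H.s = β ≫ H.t) : T ⟶ H.R :=
  pullback.lift α β h ≫ H.c

theorem cmp_congr (H : Grpd.GroupoidScheme S) {T : Scheme.{u}} {α α' β β' : T ⟶ H.R}
    (h : α ≫ H.s = β ≫ H.t) (h' : α' ≫ H.s = β' ≫ H.t) (e : α = α') (e' : β = β') :
    cmp H α β h = cmp H α' β' h' := by
  subst e; subst e'; rfl

theorem toQuot_eq : G.s ≫ G.toQuot = G.t ≫ G.toQuot := by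
  rw [Grpd.GroupoidScheme.toQuot, ← Category.assoc, ← Category.assoc, Scheme.toSpecΓ_naturality,
    Scheme.toSpecΓ_naturality, Category.assoc, Category.assoc, ← Spec.map_comp, ← Spec.map_comp]
  congr 2
  ext x
  exact x.2

/-- The map of arrows to pairs of points with the same image in the quotient. -/
noncomputable def ρ : G.R ⟶ pullback G.toQuot G.toQuot := pullback.lift G.s G.t (toQuot_eq G)

/-- The hypothesis that the square of stabilizers is cartesian. -/
def Stab : Prop :=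
  ∃ g : G'.stabilizer ⟶ G.stabilizer,
    g ≫ pullback.fst G.j G.diag = pullback.fst G'.j G'.diag ≫ f.fR ∧
      IsPullback g G'.stabilizerToU G.stabilizerToU f.fU

variable {G' G f} (hs : IsPullback f.fR G'.s G.s f.fU)

/-- The end point of the lift of an arrow with given starting point. -/
noncomputable def tr {T : Scheme.{u}} (r : T ⟶ G.R) (v : T ⟶ G'.U) (h : r ≫ G.s = v ≫ f.fU) :
    T ⟶ G'.U :=
  hs.lift r v h ≫ G'.t

theorem tr_fU {T : Scheme.{u}} (r : T ⟶ G.R) (v : T ⟶ G'.U) (h : r ≫ G.s = v ≫ f.fU) :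
    tr hs r v h ≫ f.fU = r ≫ G.t := by
  rw [tr, Category.assoc, ← f.comm_t, hs.lift_fst_assoc]

theorem tr_eq {T : Scheme.{u}} (r : T ⟶ G.R) (v : T ⟶ G'.U) (h : r ≫ G.s = v ≫ f.fU)
    (r' : T ⟶ G'.R) (h₁ : r' ≫ f.fR = r) (h₂ : r' ≫ G'.s = v) : tr hs r v h = r' ≫ G'.t := by
  rw [tr]
  congr 1
  exact hs.hom_ext (by rw [hs.lift_fst, h₁]) (by rw [hs.lift_snd, h₂])

variable (hstab : Stab G' G f)

include hstab in
theorem exists_loop {T : Scheme.{u}} (r : T ⟶ G.R) (v : T ⟶ G'.U) (h : r ≫ G.s = v ≫ f.fU)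
    (hloop : r ≫ G.t = r ≫ G.s) :
    ∃ r' : T ⟶ G'.R, r' ≫ f.fR = r ∧ r' ≫ G'.s = v ∧ r' ≫ G'.t = v := by
  obtain ⟨g, hg, hP⟩ := hstab
  have w : r ≫ G.j = (r ≫ G.s) ≫ G.diag := by
    refine pullback.hom_ext ?_ ?_
    · simp [Grpd.GroupoidScheme.j, Grpd.GroupoidScheme.diag, hloop]
    · simp [Grpd.GroupoidScheme.j, Grpd.GroupoidScheme.diag]
  let γ : T ⟶ G.stabilizer := pullback.lift r (r ≫ G.s) w
  have hγ : γ ≫ G.stabilizerToU = v ≫ f.fU := (pullback.lift_snd _ _ _).trans h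
  let γ' := hP.lift γ v hγ
  refine ⟨γ' ≫ pullback.fst G'.j G'.diag, ?_, ?_, ?_⟩
  · rw [Category.assoc, ← hg, hP.lift_fst_assoc]
    exact pullback.lift_fst _ _ _
  · have := congr(γ' ≫ $(pullback.condition (f := G'.j) (g := G'.diag)) ≫ pullback.snd G'.pU G'.pU)
    simp only [Grpd.GroupoidScheme.j, Grpd.GroupoidScheme.diag, Category.assoc,
      pullback.lift_snd, Category.comp_id] at this
    rw [Category.assoc]
    exact this.trans (hP.lift_snd γ v hγ)
  · have := congr(γ' ≫ $(pullback.condition (f := G'.j) (g := G'.diag)) ≫ pullback.fst G'.pU G'.pU)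
    simp only [Grpd.GroupoidScheme.j, Grpd.GroupoidScheme.diag, Category.assoc,
      pullback.lift_fst, Category.comp_id] at this
    rw [Category.assoc]
    exact this.trans (hP.lift_snd γ v hγ)

include hstab in
theorem tr_loop {T : Scheme.{u}} (r : T ⟶ G.R) (v : T ⟶ G'.U) (h : r ≫ G.s = v ≫ f.fU)
    (hloop : r ≫ G.t = r ≫ G.s) : tr hs r v h = v := by
  obtain ⟨r', h₁, h₂, h₃⟩ := exists_loop hstab r v h hloop
  rw [tr_eq hs r v h r' h₁ h₂, h₃]

include hstab in
/-- Arrows with the same ends transport points in the same way. -/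
theorem tr_congr {T : Scheme.{u}} (r₀ r₁ : T ⟶ G.R) (v : T ⟶ G'.U) (h₀ : r₀ ≫ G.s = v ≫ f.fU)
    (h₁ : r₁ ≫ G.s = v ≫ f.fU) (hs' : r₀ ≫ G.s = r₁ ≫ G.s) (ht' : r₀ ≫ G.t = r₁ ≫ G.t) :
    tr hs r₀ v h₀ = tr hs r₁ v h₁ := by
  have w : (r₀ ≫ G.i) ≫ G.s = r₁ ≫ G.t := by rw [Category.assoc, G.i_s, ht']
  let δ := cmp G (r₀ ≫ G.i) r₁ w
  have hδs : δ ≫ G.s = r₁ ≫ G.s := G.comp_s _ _ _
  have hδt : δ ≫ G.t = r₀ ≫ G.s := by rw [G.comp_t, Category.assoc, G.i_t]
  obtain ⟨d', hd₁, hd₂, hd₃⟩ := exists_loop hstab δ v (hδs.trans h₁) (by rw [hδt, hδs, hs'])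
  let L₀ := hs.lift r₀ v h₀
  have w' : L₀ ≫ G'.s = d' ≫ G'.t := by rw [hd₃]; exact hs.lift_snd _ _ _
  have e : r₀ ≫ G.s = δ ≫ G.t := hδt.symm
  have key : cmp G r₀ δ e = r₁ := by
    have w1 : r₀ ≫ G.s = (r₀ ≫ G.i) ≫ G.t := by rw [Category.assoc, G.i_t]
    refine (G.assoc r₀ (r₀ ≫ G.i) r₁ w1 w).symm.trans ?_
    refine Eq.trans ?_ (G.e_comp r₁)
    exact cmp_congr G _ _ ((G.comp_i r₀).trans (by rw [← Category.assoc, ht', Category.assoc])) rfl
  have hfst : cmp G' L₀ d' w' ≫ f.fR = r₁ := by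
    refine (f.comm_c L₀ d' w').trans ?_
    refine Eq.trans ?_ key
    exact cmp_congr G _ _ (hs.lift_fst _ _ _) hd₁
  rw [tr_eq hs r₁ v h₁ _ hfst (by rw [G'.comp_s, hd₂]), G'.comp_t]
  rfl

theorem tr_comp {T : Scheme.{u}} (r r₂ : T ⟶ G.R) (v : T ⟶ G'.U) (h : r ≫ G.s = v ≫ f.fU)
    (h₂ : r₂ ≫ G.s = r ≫ G.t) :
    tr hs (cmp G r₂ r h₂) v ((G.comp_s _ _ _).trans h) =
      tr hs r₂ (tr hs r v h) (h₂.trans (tr_fU hs r v h).symm) := by
  let L := hs.lift r v h
  let L₂ := hs.lift r₂ (tr hs r v h) (h₂.trans (tr_fU hs r v h).symm)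
  have w : L₂ ≫ G'.s = L ≫ G'.t := hs.lift_snd _ _ _
  rw [tr_eq hs _ v _ (cmp G' L₂ L w) ((f.comm_c _ _ _).trans (cmp_congr G _ _ (hs.lift_fst _ _ _)
    (hs.lift_fst _ _ _))) (by rw [G'.comp_s]; exact hs.lift_snd _ _ _), G'.comp_t]
  rfl

theorem tr_natural {T T₁ : Scheme.{u}} (g : T₁ ⟶ T) (r : T ⟶ G.R) (v : T ⟶ G'.U)
    (h : r ≫ G.s = v ≫ f.fU) :
    tr hs (g ≫ r) (g ≫ v) (by rw [Category.assoc, h, Category.assoc]) = g ≫ tr hs r v h := by
  rw [tr_eq hs (g ≫ r) (g ≫ v) _ (g ≫ hs.lift r v h) (by rw [Category.assoc, hs.lift_fst])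
    (by rw [Category.assoc, hs.lift_snd]), tr, Category.assoc]

variable (G) in
theorem surjective_ρ [IsAffine G.U] [IsAffine G.R] [IsFinite G.s] [Flat G.s] [LocallyOfFinitePresentation G.s]
    [IsFinite G.t] [Flat G.t] [LocallyOfFinitePresentation G.t] : Surjective (ρ G) := by
  refine ⟨fun p => ?_⟩
  let k := AlgebraicClosure ((pullback G.toQuot G.toQuot).residueField p)
  let pt : Spec (CommRingCat.of k) ⟶ pullback G.toQuot G.toQuot :=
    Spec.map (CommRingCat.ofHom (algebraMap ((pullback G.toQuot G.toQuot).residueField p) k)) ≫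
      (pullback G.toQuot G.toQuot).fromSpecResidueField p
  obtain ⟨r, hrt, hrs⟩ := (((Groth.Agent.S1878.result S G).2 k).2
    (pt ≫ pullback.snd _ _) (pt ≫ pullback.fst _ _)).1 (by simp [pullback.condition])
  have hr : r ≫ ρ G = pt := pullback.hom_ext (by simp [ρ, hrs]) (by simp [ρ, hrt])
  refine ⟨r (IsLocalRing.closedPoint k), ?_⟩
  rw [← Scheme.Hom.comp_apply, hr]
  simp only [pt, Scheme.Hom.comp_apply]
  exact Scheme.fromSpecResidueField_apply p _

end Groth.Agent.H19.GrpdEt.Descend
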