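import Groth.Agent.S0782
import Groth.Agent.H19.GrpdEt.Tr

/-!
# The descent morphism on pairs of points
-/

set_option autoImplicit false
set_option linter.style.haveILetI false
set_option backward.isDefEq.respectTransparency false

universe u

open CategoryTheory CategoryTheory.Limits AlgebraicGeometry

namespace Groth.Agent.H19.GrpdEt.Descend

variable {S : Scheme.{u}} {G' G : Grpd.GroupoidScheme S} {f : Grpd.GroupoidScheme.Hom G' G}
  (hs : IsPullback f.fR G'.s G.s f.fU) (hstab : Stab G' G f)

variable (G f) in
/-- The source side over the pairs of points. -/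
noncomputable abbrev E₀ : Over (pullback G.toQuot G.toQuot) :=
  Over.mk (pullback.fst (pullback.fst G.toQuot G.toQuot) f.fU)

variable (G f) in
/-- The target side over the pairs of points. -/
noncomputable abbrev E₁ : Over (pullback G.toQuot G.toQuot) :=
  Over.mk (pullback.fst (pullback.snd G.toQuot G.toQuot) f.fU)

variable (G f) in
theorem pr_eq : (pullback.fst (ρ G) (E₀ G f).hom ≫ G.s =
    (pullback.snd (ρ G) (E₀ G f).hom ≫ pullback.snd (pullback.fst G.toQuot G.toQuot) f.fU) ≫ f.fU) := by
  rw [Category.assoc, ← pullback.condition]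
  change _ = pullback.snd (ρ G) (E₀ G f).hom ≫ (E₀ G f).hom ≫ _
  rw [← pullback.condition_assoc, ρ, pullback.lift_fst]

/-- The transport, as a morphism over the arrows. -/
noncomputable def outMap : pullback (ρ G) (E₀ G f).hom ⟶ (E₁ G f).left :=
  pullback.lift (pullback.fst _ _ ≫ ρ G) (tr hs _ _ (pr_eq G f))
    (by rw [tr_fU, Category.assoc, ρ, pullback.lift_snd])

include hstab in
theorem exists_m [IsAffine G.U] [IsAffine G.R] [IsFinite G.s] [Flat G.s] [LocallyOfFinitePresentation G.s]
    [IsFinite G.t] [Flat G.t] [LocallyOfFinitePresentation G.t] [Etale f.fU] :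
    ∃ m : E₀ G f ⟶ E₁ G f, ∀ {T : Scheme.{u}} (r : T ⟶ G.R) (v : T ⟶ G'.U)
      (h : r ≫ G.s = v ≫ f.fU),
      pullback.lift (r ≫ ρ G) v (by rw [Category.assoc, ρ, pullback.lift_fst, h]) ≫ m.left ≫
          pullback.snd _ _ = tr hs r v h := by
  haveI : Surjective (ρ G) := surjective_ρ G
  haveI : Etale (E₀ G f).hom := inferInstanceAs (Etale (pullback.fst (pullback.fst G.toQuot G.toQuot) f.fU))
  haveI : Etale (E₁ G f).hom := inferInstanceAs (Etale (pullback.fst (pullback.snd G.toQuot G.toQuot) f.fU))
  haveI : IsFinite (ρ G) := by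
    haveI : IsFinite (ρ G ≫ pullback.fst G.toQuot G.toQuot) := by
      rw [ρ, pullback.lift_fst]; infer_instance
    haveI : IsAffineHom G.toQuot := inferInstance
    exact IsFinite.of_comp (ρ G) (pullback.fst G.toQuot G.toQuot)
  let hom : ((Desc.toDD (ρ G)).obj (E₀ G f)).obj ⟶ ((Desc.toDD (ρ G)).obj (E₁ G f)).obj :=
    Over.homMk (pullback.lift (pullback.fst _ _) (outMap hs) (pullback.lift_fst _ _ _).symm)
      (pullback.lift_fst _ _ _)
  let mor : (Desc.toDD (ρ G)).obj (E₀ G f) ⟶ (Desc.toDD (ρ G)).obj (E₁ G f) :=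
    ⟨hom, fun T r₀ r₁ h v w hw => by
      have hv : v.1 ≫ pullback.fst (ρ G) (E₀ G f).hom = r₀ := v.2
      apply pullback.hom_ext
      · simp [Desc.toDD, Desc.canonicalDD, hom]
      · simp only [Desc.toDD, Desc.canonicalDD, hom, Equiv.coe_fn_mk, Desc.canMap_val,
          pullback.lift_snd, Over.homMk_left, Category.assoc, hw]
        apply pullback.hom_ext
        · simp only [outMap, Category.assoc, pullback.lift_fst]
          refine (Category.assoc _ _ _).symm.trans ((congrArg (· ≫ ρ G) hv).trans ?_)
          rw [pullback.lift_fst_assoc]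
          exact h
        · simp only [outMap, Category.assoc, pullback.lift_snd]
          rw [← tr_natural, ← tr_natural]
          have e1 : G.s ≫ 𝟙 _ = G.s := Category.comp_id _
          have hs₁ : r₀ ≫ G.s = r₁ ≫ G.s := by
            have := congr($h ≫ pullback.fst G.toQuot G.toQuot)
            simpa [ρ] using this
          have ht₁ : r₀ ≫ G.t = r₁ ≫ G.t := by
            have := congr($h ≫ pullback.snd G.toQuot G.toQuot)
            simpa [ρ] using this
          simp only [hv, pullback.lift_fst, pullback.lift_snd_assoc]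
          exact tr_congr hs hstab _ _ _ _ _ hs₁ ht₁⟩
  obtain ⟨m, hm⟩ := Groth.Agent.S0782.result (ρ G) (fun U _ => by
      have hsurj : Surjective (pullback.snd (ρ G) U.hom) := inferInstance
      haveI : UniversallyClosed (pullback.snd (ρ G) U.hom) := inferInstance
      exact (pullback.snd (ρ G) U.hom).isClosedMap.isQuotientMap
        (pullback.snd (ρ G) U.hom).continuous hsurj.surj) (E₀ G f) (E₁ G f) mor
  refine ⟨m, fun r v h => ?_⟩
  let p := pullback.lift (f := pullback.fst G.toQuot G.toQuot) (g := f.fU) (r ≫ ρ G) v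
    (by rw [Category.assoc, ρ, pullback.lift_fst, h])
  let z := pullback.lift (f := ρ G) (g := (E₀ G f).hom) r p (pullback.lift_fst _ _ _).symm
  have := congr(z ≫ (($hm).hom.left) ≫ pullback.snd _ _ ≫ pullback.snd _ _)
  simp only [Desc.toDD, mor, hom, Over.homMk_left, pullback.lift_snd_assoc, outMap,
    pullback.lift_snd] at this
  rw [← tr_natural] at this
  simp only [z, p, pullback.lift_fst, pullback.lift_snd_assoc, pullback.lift_snd] at this
  refine Eq.trans ?_ this
  simp only [Category.assoc, pullback.lift_snd_assoc]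
end Groth.Agent.H19.GrpdEt.Descend
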