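import Groth.Agent.S0783
import Groth.Agent.H19.GrpdEt.ExistsM

/-!
# An etale cartesian morphism of groupoids descends to the quotient
-/

set_option autoImplicit false
set_option linter.style.haveILetI false
set_option backward.isDefEq.respectTransparency false

universe u

open CategoryTheory CategoryTheory.Limits AlgebraicGeometry

namespace Groth.Agent.H19.GrpdEt.Descend

variable {S : Scheme.{u}} {G' G : Grpd.GroupoidScheme S} {f : Grpd.GroupoidScheme.Hom G' G}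
  (hs : IsPullback f.fR G'.s G.s f.fU) (hstab : Stab G' G f)

include hs hstab in
theorem exists_descent [IsAffine G.U] [IsAffine G.R] [IsFinite G.s] [Flat G.s]
    [LocallyOfFinitePresentation G.s] [IsFinite G.t] [Flat G.t] [LocallyOfFinitePresentation G.t]
    [IsAffine G'.U] [Etale f.fU] :
    ∃ (V : Over (Spec (CommRingCat.of G.invariants))) (π : G'.U ⟶ V.left),
      Etale V.hom ∧ IsPullback f.fU π G.toQuot V.hom ∧ G'.s ≫ π = G'.t ≫ π ∧
        Surjective π ∧ UniversallyClosed π := by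
  obtain ⟨m, hm⟩ := exists_m hs hstab
  let q := G.toQuot
  haveI : IsIntegralHom q := by
    haveI : IsIntegralHom (Spec.map (CommRingCat.ofHom G.invariants.subtype)) := by
      rw [IsIntegralHom.SpecMap_iff]
      exact algebraMap_isIntegral_iff.2 (Groth.Agent.S1879.result S G)
    show IsIntegralHom (G.U.toSpecΓ ≫ Spec.map (CommRingCat.ofHom G.invariants.subtype))
    infer_instance
  haveI : Surjective q := ⟨(Groth.Agent.S1878.result S G).1.1⟩
  let ev : ∀ {T : Scheme.{u}} (x₀ x₁ : T ⟶ G.U), x₀ ≫ q = x₁ ≫ q →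
      Desc.Lifts (Over.mk f.fU) x₀ → Desc.Lifts (Over.mk f.fU) x₁ := fun x₀ x₁ h v =>
    ⟨pullback.lift (f := pullback.fst G.toQuot G.toQuot) (g := f.fU) (pullback.lift x₀ x₁ h) v.1
        (by rw [pullback.lift_fst]; exact v.2.symm) ≫ m.left ≫ pullback.snd _ _, by
      show (_ ≫ _ ≫ _) ≫ f.fU = x₁
      rw [Category.assoc, Category.assoc, ← pullback.condition]
      have hw : m.left ≫ pullback.fst (pullback.snd G.toQuot G.toQuot) f.fU =
        pullback.fst (pullback.fst G.toQuot G.toQuot) f.fU := Over.w m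
      rw [reassoc_of% hw, pullback.lift_fst_assoc, pullback.lift_snd]⟩
  have key : ∀ {T : Scheme.{u}} (r : T ⟶ G.R) (x₀ x₁ : T ⟶ G.U) (h : x₀ ≫ q = x₁ ≫ q)
      (h₀ : r ≫ G.s = x₀) (h₁ : r ≫ G.t = x₁) (v : Desc.Lifts (Over.mk f.fU) x₀),
      (ev x₀ x₁ h v).1 = tr hs r v.1 (h₀.trans v.2.symm) := by
    intro T r x₀ x₁ h h₀ h₁ v
    rw [← hm r v.1 (h₀.trans v.2.symm)]
    simp only [ev]
    congr 1
    apply pullback.hom_ext
    · rw [pullback.lift_fst, pullback.lift_fst]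
      apply pullback.hom_ext <;> simp [ρ, h₀, h₁]
    · rw [pullback.lift_snd, pullback.lift_snd]
  have hnat : ∀ {T T₁ : Scheme.{u}} (g : T₁ ⟶ T) (x₀ x₁ : T ⟶ G.U) (h : x₀ ≫ q = x₁ ≫ q)
      (h' : (g ≫ x₀) ≫ q = (g ≫ x₁) ≫ q) (v : Desc.Lifts (Over.mk f.fU) x₀)
      (v' : Desc.Lifts (Over.mk f.fU) (g ≫ x₀)), v'.1 = g ≫ v.1 →
      (ev (g ≫ x₀) (g ≫ x₁) h' v').1 = g ≫ (ev x₀ x₁ h v).1 := by
    intro T T₁ g x₀ x₁ h h' v v' hv'
    simp only [ev, ← Category.assoc]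
    congr 2
    apply pullback.hom_ext
    · rw [Category.assoc, pullback.lift_fst, pullback.lift_fst]
      apply pullback.hom_ext <;> simp
    · rw [Category.assoc, pullback.lift_snd, pullback.lift_snd, hv']
  have hself : ∀ {T : Scheme.{u}} (x : T ⟶ G.U) (v : Desc.Lifts (Over.mk f.fU) x),
      ev x x rfl v = v := by
    intro T x v
    apply Subtype.ext
    rw [key (x ≫ G.e) x x rfl (by rw [Category.assoc, G.e_s, Category.comp_id])
      (by rw [Category.assoc, G.e_t, Category.comp_id]) v]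
    exact tr_loop hs hstab _ _ _ (by simp [G.e_s, G.e_t])
  have hcomp : ∀ {T : Scheme.{u}} (x₀ x₁ x₂ : T ⟶ G.U) (h₀₁ : x₀ ≫ q = x₁ ≫ q)
      (h₁₂ : x₁ ≫ q = x₂ ≫ q) (v : Desc.Lifts (Over.mk f.fU) x₀),
      ev x₁ x₂ h₁₂ (ev x₀ x₁ h₀₁ v) = ev x₀ x₂ (h₀₁.trans h₁₂) v := by
    intro T x₀ x₁ x₂ h₀₁ h₁₂ v
    apply Subtype.ext
    haveI : Surjective (ρ G) := surjective_ρ G
    let g₁ := pullback.fst (pullback.lift x₀ x₁ h₀₁) (ρ G)
    let g₂ := pullback.fst (g₁ ≫ pullback.lift x₁ x₂ h₁₂) (ρ G)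
    let r₁ := pullback.snd (g₁ ≫ pullback.lift x₁ x₂ h₁₂) (ρ G)
    let r₀ := g₂ ≫ pullback.snd (pullback.lift x₀ x₁ h₀₁) (ρ G)
    let g := g₂ ≫ g₁
    have hr₀ : r₀ ≫ ρ G = g ≫ pullback.lift x₀ x₁ h₀₁ := by
      simp only [r₀, g, g₁, Category.assoc, ← pullback.condition]
    have hr₁ : r₁ ≫ ρ G = g ≫ pullback.lift x₁ x₂ h₁₂ := by
      simp only [r₁, g, g₂, Category.assoc, ← pullback.condition]
    have a1 : r₀ ≫ G.s = g ≫ x₀ := by simpa [ρ] using congr($hr₀ ≫ pullback.fst _ _)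
    have a2 : r₀ ≫ G.t = g ≫ x₁ := by simpa [ρ] using congr($hr₀ ≫ pullback.snd _ _)
    have a3 : r₁ ≫ G.s = g ≫ x₁ := by simpa [ρ] using congr($hr₁ ≫ pullback.fst _ _)
    have a4 : r₁ ≫ G.t = g ≫ x₂ := by simpa [ρ] using congr($hr₁ ≫ pullback.snd _ _)
    refine eq_of_cover f.fU g _ _ ((ev x₁ x₂ h₁₂ _).2.trans (ev x₀ x₂ _ v).2.symm) ?_
    have hg : ∀ {y₀ y₁ : T ⟶ G.U}, y₀ ≫ q = y₁ ≫ q → (g ≫ y₀) ≫ q = (g ≫ y₁) ≫ q :=
      fun h => by simp only [g, Category.assoc, h]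
    let v₀ : Desc.Lifts (Over.mk f.fU) (g ≫ x₀) := ⟨g ≫ v.1, by rw [Category.assoc, v.2]⟩
    let v₁ : Desc.Lifts (Over.mk f.fU) (g ≫ x₁) :=
      ⟨g ≫ (ev x₀ x₁ h₀₁ v).1, by rw [Category.assoc, (ev x₀ x₁ h₀₁ v).2]⟩
    rw [← hnat g x₁ x₂ h₁₂ (hg h₁₂) (ev x₀ x₁ h₀₁ v) v₁ rfl,
      ← hnat g x₀ x₂ (h₀₁.trans h₁₂) (hg (h₀₁.trans h₁₂)) v v₀ rfl,
      key r₁ _ _ (hg h₁₂) a3 a4 v₁,
      key (cmp G r₁ r₀ (a3.trans a2.symm)) _ _ (hg (h₀₁.trans h₁₂)) ((G.comp_s _ _ _).trans a1)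
        ((G.comp_t _ _ _).trans a4) v₀,
      tr_comp hs r₀ r₁ v₀.1 (a1.trans v₀.2.symm) (a3.trans a2.symm)]
    congr 1
    exact (hnat g x₀ x₁ h₀₁ (hg h₀₁) v v₀ rfl).symm.trans (key r₀ _ _ (hg h₀₁) a1 a2 v₀)
  let D : Desc.SchDD q :=
    { obj := Over.mk f.fU
      φ := fun T x₀ x₁ h =>
        { toFun := ev x₀ x₁ h
          invFun := ev x₁ x₀ h.symm
          left_inv := fun v => (hcomp _ _ _ _ _ v).trans (hself _ v)
          right_inv := fun v => (hcomp _ _ _ _ _ v).trans (hself _ v) }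
      φ_natural := fun T T' g x₀ x₁ h h' v v' hv' => hnat g x₀ x₁ h h' v v' hv'
      φ_self := fun T x v => hself x v
      φ_comp := fun T x₀ x₁ x₂ h h' v => hcomp x₀ x₁ x₂ h h' v }
  haveI : QuasiCompact D.obj.hom := inferInstanceAs (QuasiCompact f.fU)
  haveI : IsSeparated D.obj.hom := inferInstanceAs (IsSeparated f.fU)
  haveI : Etale D.obj.hom := inferInstanceAs (Etale f.fU)
  obtain ⟨V, -, -, hVe, ⟨e⟩⟩ := Groth.Agent.S0783.result q D
  let π : G'.U ⟶ V.left := e.inv.hom.left ≫ pullback.snd q V.hom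
  let ei : G'.U ≅ pullback q V.hom :=
    { hom := e.inv.hom.left
      inv := e.hom.hom.left
      hom_inv_id := congr(($(e.inv_hom_id)).hom.left)
      inv_hom_id := congr(($(e.hom_inv_id)).hom.left) }
  have w1 : e.inv.hom.left ≫ pullback.fst q V.hom = f.fU := Over.w e.inv.hom
  have hP : IsPullback f.fU π q V.hom :=
    IsPullback.of_iso_pullback ⟨by rw [← w1, Category.assoc, pullback.condition, Category.assoc]⟩ ei
      w1 rfl
  refine ⟨V, π, hVe, hP, ?_, MorphismProperty.of_isPullback hP inferInstance,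
    MorphismProperty.of_isPullback hP inferInstance⟩
  have h : (G'.s ≫ f.fU) ≫ q = (G'.t ≫ f.fU) ≫ q := by
    simp only [← f.comm_s, ← f.comm_t, Category.assoc, q, toQuot_eq]
  let v : Desc.Lifts (Over.mk f.fU) (G'.s ≫ f.fU) := ⟨G'.s, rfl⟩
  let w : Desc.Lifts (Over.mk (pullback.fst q V.hom)) (G'.s ≫ f.fU) :=
    ⟨G'.s ≫ e.inv.hom.left, by rw [Category.assoc]; exact congrArg _ w1⟩
  have hv : (ev (G'.s ≫ f.fU) (G'.t ≫ f.fU) h v).1 = G'.t := by
    rw [key f.fR _ _ h f.comm_s f.comm_t v,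
      tr_eq hs _ _ _ (𝟙 _) (Category.id_comp _) (Category.id_comp _), Category.id_comp]
  have hc := congr($(e.inv.comm (G'.s ≫ f.fU) (G'.t ≫ f.fU) h v w rfl) ≫ pullback.snd q V.hom)
  simp only [Desc.toDD, Desc.canonicalDD, Equiv.coe_fn_mk, Desc.canMap_val, pullback.lift_snd,
    Category.assoc, w, D] at hc
  rw [hv] at hc
  exact hc

end Groth.Agent.H19.GrpdEt.Descend
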