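import Groth.Agent.H19.GrpdEt.Descend
import Groth.Agent.S7487
import Groth.Agent.S0593
import Mathlib.AlgebraicGeometry.Morphisms.Affine

/-!
# The quotient map of an etale cartesian morphism of groupoids
-/

set_option autoImplicit false
set_option linter.style.haveILetI false

universe u

open CategoryTheory CategoryTheory.Limits AlgebraicGeometry
open scoped TensorProduct

namespace Groth.Agent.H19.GrpdEt

variable {S : Scheme.{u}}

theorem toQuot_appTop (G : Grpd.GroupoidScheme S) :
    G.toQuot.appTop =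
      (Scheme.ΓSpecIso (CommRingCat.of G.invariants)).hom ≫ CommRingCat.ofHom G.invariants.subtype := by
  rw [Grpd.GroupoidScheme.toQuot, Scheme.Hom.comp_appTop, Scheme.toSpecΓ_appTop,
    Scheme.ΓSpecIso_naturality]

/-- A map to the spectrum of a ring is determined by its composition with `toQuot`. -/
theorem toQuot_hom_ext (G : Grpd.GroupoidScheme S) [IsAffine G.U] {C : CommRingCat.{u}}
    (g g' : Spec (CommRingCat.of G.invariants) ⟶ Spec C) (h : G.toQuot ≫ g = G.toQuot ≫ g') :
    g = g' := by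
  obtain ⟨a, rfl⟩ := Spec.map_surjective g
  obtain ⟨a', rfl⟩ := Spec.map_surjective g'
  rw [Grpd.GroupoidScheme.toQuot, Category.assoc, Category.assoc, cancel_epi, ← Spec.map_comp,
    ← Spec.map_comp] at h
  have h' := Spec.map_injective h
  exact congrArg Spec.map (CommRingCat.hom_ext (RingHom.ext fun x => Subtype.ext congr($h' x)))

/-- The tensor product computes the functions on a cartesian square of affine schemes. -/
noncomputable def pushEquiv {C A B P : Type u} [CommRing C] [CommRing A] [CommRing B] [CommRing P]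
    [Algebra C A] [Algebra C B] (i : A →+* P) (j : B →+* P)
    (h : IsPushout (CommRingCat.ofHom (algebraMap C A)) (CommRingCat.ofHom (algebraMap C B))
      (CommRingCat.ofHom i) (CommRingCat.ofHom j)) : A ⊗[C] B ≃+* P :=
  ((CommRingCat.isPushout_tensorProduct C A B).isoIsPushout _ _ h).commRingCatIsoToRingEquiv

theorem pushEquiv_tmul {C A B P : Type u} [CommRing C] [CommRing A] [CommRing B] [CommRing P]
    [Algebra C A] [Algebra C B] (i : A →+* P) (j : B →+* P)
    (h : IsPushout (CommRingCat.ofHom (algebraMap C A)) (CommRingCat.ofHom (algebraMap C B))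
      (CommRingCat.ofHom i) (CommRingCat.ofHom j)) (a : A) (b : B) :
    pushEquiv i j h (a ⊗ₜ b) = i a * j b := by
  have h1 : pushEquiv i j h (a ⊗ₜ 1) = i a :=
    congr($((CommRingCat.isPushout_tensorProduct C A B).inl_isoIsPushout_hom _ _ h).hom a)
  have h2 : pushEquiv i j h (1 ⊗ₜ b) = j b :=
    congr($((CommRingCat.isPushout_tensorProduct C A B).inr_isoIsPushout_hom _ _ h).hom b)
  rw [← h1, ← h2, ← map_mul, Algebra.TensorProduct.tmul_mul_tmul, mul_one, one_mul]

/-- The algebra behind the computation of the invariants. -/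
theorem invariants_of_pushouts {C A R B A' R' : Type u} [CommRing C] [CommRing A] [CommRing R]
    [CommRing B] [CommRing A'] [CommRing R'] [Algebra C A] [Algebra C B] [Algebra C R]
    {iA : A →+* A'} {jA : B →+* A'} {iR : R →+* R'} {jR : B →+* R'}
    (hA : IsPushout (CommRingCat.ofHom (algebraMap C A)) (CommRingCat.ofHom (algebraMap C B))
      (CommRingCat.ofHom iA) (CommRingCat.ofHom jA))
    (hR : IsPushout (CommRingCat.ofHom (algebraMap C R)) (CommRingCat.ofHom (algebraMap C B))
      (CommRingCat.ofHom iR) (CommRingCat.ofHom jR))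
    (sA tA : A →ₐ[C] R) (s' t' : A' →+* R') (hs : ∀ x, s' (iA x) = iR (sA x))
    (ht : ∀ x, t' (iA x) = iR (tA x)) (hsj : ∀ b, s' (jA b) = jR b) (htj : ∀ b, t' (jA b) = jR b)
    (hinj : Function.Injective (Algebra.TensorProduct.includeRight : B →ₐ[C] A ⊗[C] B))
    (hrange : ∀ y : A ⊗[C] B, Algebra.TensorProduct.map sA (AlgHom.id C B) y =
        Algebra.TensorProduct.map tA (AlgHom.id C B) y →
      y ∈ Set.range (Algebra.TensorProduct.includeRight : B →ₐ[C] A ⊗[C] B)) :
    Function.Injective jA ∧ ∀ x, s' x = t' x → ∃ b, jA b = x := by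
  let eA := pushEquiv iA jA hA
  let eR := pushEquiv iR jR hR
  have hr : ∀ b, eA (1 ⊗ₜ b) = jA b := fun b => by rw [pushEquiv_tmul, map_one, one_mul]
  have key : ∀ (σ : A →ₐ[C] R) (σ' : A' →+* R'), (∀ x, σ' (iA x) = iR (σ x)) →
      (∀ b, σ' (jA b) = jR b) →
      ∀ y, eR (Algebra.TensorProduct.map σ (AlgHom.id C B) y) = σ' (eA y) := by
    intro σ σ' h₁ h₂ y
    induction y using TensorProduct.induction_on with
    | zero => simp
    | tmul x b =>
      rw [Algebra.TensorProduct.map_tmul, AlgHom.id_apply, pushEquiv_tmul, pushEquiv_tmul, map_mul,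
        h₁, h₂]
    | add x y hx hy => rw [map_add, map_add, hx, hy, map_add, map_add]
  refine ⟨fun b b' hb => hinj (eA.injective ((hr b).trans (hb.trans (hr b').symm))), fun x hx => ?_⟩
  obtain ⟨y, rfl⟩ := eA.surjective x
  obtain ⟨b, rfl⟩ := hrange y (eR.injective
    ((key sA s' hs hsj y).trans (hx.trans (key tA t' ht htj y).symm)))
  exact ⟨b, (hr b).symm⟩

theorem main (G' G : Grpd.GroupoidScheme S) (f : Grpd.GroupoidScheme.Hom G' G)
    [IsAffine G.U] [IsAffine G.R] [IsAffine G'.U] [IsFinite G.s] [Flat G.s]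
    [LocallyOfFinitePresentation G.s] [IsFinite G.t] [Flat G.t] [LocallyOfFinitePresentation G.t]
    [Etale f.fU] (hs : IsPullback f.fR G'.s G.s f.fU) (hstab : Descend.Stab G' G f) :
    ∃ g : Spec (CommRingCat.of G'.invariants) ⟶ Spec (CommRingCat.of G.invariants),
      G'.toQuot ≫ g = f.fU ≫ G.toQuot ∧ Etale g ∧ IsPullback f.fU G'.toQuot G.toQuot g := by
  obtain ⟨V, π, hVe, hP, hsπ, hπs, hπc⟩ := Descend.exists_descent hs hstab
  haveI : IsAffine V.left := Groth.Agent.S0593.result G'.U V.left π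
  let a : CommRingCat.of G.invariants ⟶ Γ(V.left, ⊤) :=
    (Scheme.ΓSpecIso (CommRingCat.of G.invariants)).inv ≫ V.hom.appTop
  letI : Algebra G.invariants Γ(V.left, ⊤) := a.hom.toAlgebra
  letI : Algebra G.invariants Γ(G.R, ⊤) := (G.s.appTop.hom.comp G.invariants.subtype).toAlgebra
  have hflat : Module.Flat G.invariants Γ(V.left, ⊤) := by
    have h₁ : (Scheme.ΓSpecIso (CommRingCat.of G.invariants)).inv.hom.Flat :=
      RingHom.Flat.of_bijective
        (ConcreteCategory.bijective_of_isIso (Scheme.ΓSpecIso (CommRingCat.of G.invariants)).inv)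
    have h₂ : V.hom.appTop.hom.Flat := V.hom.flat_appTop
    exact h₁.comp h₂
  have hU : IsPushout (CommRingCat.ofHom (algebraMap G.invariants Γ(G.U, ⊤)))
      (CommRingCat.ofHom (algebraMap G.invariants Γ(V.left, ⊤)))
      (CommRingCat.ofHom f.fU.appTop.hom) (CommRingCat.ofHom π.appTop.hom) :=
    (isPushout_appTop_of_isPullback hP).of_iso (Scheme.ΓSpecIso _) (Iso.refl _) (Iso.refl _)
      (Iso.refl _)
      (by rw [toQuot_appTop, Iso.refl_hom, Category.comp_id]; rfl)
      (by rw [Iso.refl_hom, Category.comp_id]; exact (Iso.hom_inv_id_assoc _ _).symm)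
      (by simp) (by simp)
  have hR : IsPushout (CommRingCat.ofHom (algebraMap G.invariants Γ(G.R, ⊤)))
      (CommRingCat.ofHom (algebraMap G.invariants Γ(V.left, ⊤)))
      (CommRingCat.ofHom f.fR.appTop.hom) (CommRingCat.ofHom (G'.s ≫ π).appTop.hom) :=
    (isPushout_appTop_of_isPullback (hs.paste_vert hP)).of_iso (Scheme.ΓSpecIso _) (Iso.refl _)
      (Iso.refl _) (Iso.refl _)
      (by rw [Scheme.Hom.comp_appTop, toQuot_appTop, Iso.refl_hom, Category.comp_id]; rfl)
      (by rw [Iso.refl_hom, Category.comp_id]; exact (Iso.hom_inv_id_assoc _ _).symm)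
      (by simp) (by simp)
  let sA : Γ(G.U, ⊤) →ₐ[G.invariants] Γ(G.R, ⊤) :=
    { G.s.appTop.hom with commutes' := fun _ => rfl }
  let tA : Γ(G.U, ⊤) →ₐ[G.invariants] Γ(G.R, ⊤) :=
    { G.t.appTop.hom with commutes' := fun c => c.2.symm }
  obtain ⟨hinj, hrange⟩ := (Groth.Agent.S7487.result S G Γ(V.left, ⊤)
    (Algebra.TensorProduct.map sA (AlgHom.id G.invariants Γ(V.left, ⊤)))
    (Algebra.TensorProduct.map tA (AlgHom.id G.invariants Γ(V.left, ⊤)))
    (fun _ _ => rfl) (fun _ _ => rfl)).2.2 hflat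
  have h₁ := congr(Scheme.Hom.appTop $(f.comm_s))
  have h₂ := congr(Scheme.Hom.appTop $(f.comm_t))
  have h₃ := congr(Scheme.Hom.appTop $hsπ)
  simp only [Scheme.Hom.comp_appTop] at h₁ h₂ h₃
  obtain ⟨hj, hj'⟩ := invariants_of_pushouts hU hR sA tA G'.s.appTop.hom G'.t.appTop.hom
    (fun x => congr($(h₁.symm) x)) (fun x => congr($(h₂.symm) x))
    (fun b => by rw [Scheme.Hom.comp_appTop]; rfl)
    (fun b => by rw [Scheme.Hom.comp_appTop]; exact congr($(h₃.symm) b)) hinj hrange
  have hmem : ∀ b, π.appTop.hom b ∈ G'.invariants := fun b => by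
    have h := congr(Scheme.Hom.appTop $hsπ)
    simp only [Scheme.Hom.comp_appTop] at h
    exact congr($h b)
  let θ : Γ(V.left, ⊤) →+* G'.invariants := π.appTop.hom.codRestrict G'.invariants hmem
  have hθ : Function.Bijective θ :=
    ⟨fun b b' hb => hj (congrArg Subtype.val hb), fun ⟨x, hx⟩ =>
      (hj' x hx).elim fun b hb => ⟨b, Subtype.ext hb⟩⟩
  let θc : Γ(V.left, ⊤) ⟶ CommRingCat.of G'.invariants := CommRingCat.ofHom θ
  haveI : IsIso θc := (ConcreteCategory.isIso_iff_bijective _).2 hθ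
  have w : G'.toQuot ≫ (Spec.map θc ≫ V.left.isoSpec.inv) = π := by
    rw [Grpd.GroupoidScheme.toQuot, Category.assoc, ← Spec.map_comp_assoc]
    change G'.U.toSpecΓ ≫ Spec.map π.appTop ≫ _ = _
    rw [← Scheme.toSpecΓ_naturality_assoc, Scheme.toSpecΓ_isoSpec_inv, Category.comp_id]
  let eQ : Spec (CommRingCat.of G'.invariants) ≅ V.left :=
    asIso (Spec.map θc ≫ V.left.isoSpec.inv)
  refine ⟨eQ.hom ≫ V.hom, ?_, inferInstance, ?_⟩
  · rw [← Category.assoc, show G'.toQuot ≫ eQ.hom = π from w]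
    exact hP.w.symm
  · exact hP.of_iso (Iso.refl _) (Iso.refl _) eQ.symm (Iso.refl _) (by simp)
      (by rw [Iso.symm_hom, Iso.comp_inv_eq, Iso.refl_hom, Category.id_comp]; exact w.symm)
      (by simp) (by simp)

end Groth.Agent.H19.GrpdEt
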